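import Groth.Agent.PLaw.Points
import Groth.Agent.PLaw.KerFinite
import Groth.Agent.NormicBC70.Basic
import Mathlib.RingTheory.TotallySplit
import Mathlib.RingTheory.TensorProduct.Pi

/-!
# Multiplicative laws out of finite étale algebras
-/

set_option autoImplicit false
set_option linter.style.haveILetI false

universe u

open scoped TensorProduct

noncomputable section

namespace Groth.Agent.EtaleLaw70

open Groth.Agent.PLaw (compat)

variable {A B : Type u} [CommRing A] [CommRing B] [Algebra A B] {d : ℕ}

/-- The value of a law out of `B` into `A` at a test algebra. -/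
def val (F : PolLaw.MulLaw A B A d) (S : Type u) [CommRing S] [Algebra A S] (z : S ⊗[A] B) : S :=
  TensorProduct.rid A S (F.law.toFun' S z)

variable (F : PolLaw.MulLaw A B A d)

theorem val_natural {S S' : Type u} [CommRing S] [Algebra A S] [CommRing S'] [Algebra A S']
    (φ : S →ₐ[A] S') (z : S ⊗[A] B) :
    φ (val F S z) = val F S' (Algebra.TensorProduct.map φ (AlgHom.id A B) z) := by
  rw [val, val, ← Groth.Agent.PLaw.rid_natural φ, ← PolLaw.rTensor_algHom_apply,
    ← PolLaw.rTensor_algHom_apply, compat]

theorem val_one (S : Type u) [CommRing S] [Algebra A S] : val F S 1 = 1 := by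
  rw [val, (F.mult S).1, Algebra.TensorProduct.one_def, TensorProduct.rid_tmul, one_smul]

theorem val_mul (S : Type u) [CommRing S] [Algebra A S] (x y : S ⊗[A] B) :
    val F S (x * y) = val F S x * val F S y := by
  rw [val, val, val, (F.mult S).2]
  exact map_mul (Algebra.TensorProduct.rid A A S) _ _

theorem val_prod (S : Type u) [CommRing S] [Algebra A S] {ι : Type*} (s : Finset ι)
    (x : ι → S ⊗[A] B) : val F S (∏ i ∈ s, x i) = ∏ i ∈ s, val F S (x i) := by
  classical
  induction s using Finset.induction with
  | empty => simp [val_one]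
  | insert i s hi ih => rw [Finset.prod_insert hi, Finset.prod_insert hi, val_mul, ih]

section split

variable {T : Type u} [CommRing T] [Algebra A T] {n : ℕ} (e : T ⊗[A] B ≃ₐ[T] (Fin n → T))
  (S : Type u) [CommRing S] [Algebra A S] [Algebra T S] [IsScalarTower A T S]

/-- The splitting over a test algebra of `T`. -/
def θ : S ⊗[A] B ≃ₐ[S] (Fin n → S) :=
  ((Algebra.TensorProduct.cancelBaseChange A T S S B).symm.trans
    (Algebra.TensorProduct.congr AlgEquiv.refl e)).trans (Algebra.TensorProduct.piScalarRight T S S (Fin n))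

theorem θ_tmul (s : S) (b : B) (i : Fin n) : θ e S (s ⊗ₜ[A] b) i = e (1 ⊗ₜ[A] b) i • s := by
  simp [θ]

variable {S} in
theorem θ_natural {S' : Type u} [CommRing S'] [Algebra A S'] [Algebra T S'] [IsScalarTower A T S']
    (ψ : S →ₐ[T] S') (z : S ⊗[A] B) (i : Fin n) :
    θ e S' (Algebra.TensorProduct.map (ψ.restrictScalars A) (AlgHom.id A B) z) i = ψ (θ e S z i) := by
  induction z using TensorProduct.induction_on with
  | zero => simp
  | tmul s b => simp [θ_tmul]
  | add u v hu hv => simp only [map_add, Pi.add_apply, hu, hv]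

/-- `1 + (r - 1) δᵢ`. -/
def el (i : Fin n) (r : S) : S ⊗[A] B := (θ e S).symm (Function.update 1 i r)

variable {S} in
theorem el_natural {S' : Type u} [CommRing S'] [Algebra A S'] [Algebra T S'] [IsScalarTower A T S']
    (ψ : S →ₐ[T] S') (i : Fin n) (r : S) :
    Algebra.TensorProduct.map (ψ.restrictScalars A) (AlgHom.id A B) (el e S i r) = el e S' i (ψ r) := by
  apply (θ e S').injective
  ext j
  rw [θ_natural, el, el, AlgEquiv.apply_symm_apply, AlgEquiv.apply_symm_apply]
  rcases eq_or_ne j i with rfl | h
  · simp
  · simp [Function.update_of_ne h]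

theorem el_mul (i : Fin n) (r r' : S) : el e S i (r * r') = el e S i r * el e S i r' := by
  rw [el, el, el, ← map_mul]
  congr 1
  ext j
  rcases eq_or_ne j i with rfl | h <;> simp [*]

theorem el_one (i : Fin n) : el e S i 1 = 1 := by
  simp [el]

theorem prod_el (v : Fin n → S) : ∏ i, el e S i (v i) = (θ e S).symm v := by
  simp only [el]
  rw [← map_prod]
  congr 1
  ext j
  rw [Finset.prod_apply, Finset.prod_eq_single j (fun i _ h => Function.update_of_ne h.symm _ _)
    (fun h => absurd (Finset.mem_univ j) h), Function.update_self]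

theorem norm_eq_prod (z : S ⊗[A] B) : Algebra.norm S z = ∏ i, θ e S z i := by
  classical
  rw [← Algebra.norm_eq_of_algEquiv (θ e S), Algebra.norm_eq_matrix_det (Pi.basisFun S (Fin n))]
  rw [show Algebra.leftMulMatrix (Pi.basisFun S (Fin n)) (θ e S z) = Matrix.diagonal (θ e S z) from ?_,
    Matrix.det_diagonal]
  ext a b
  rw [Algebra.leftMulMatrix_eq_repr_mul, Pi.basisFun_repr, Pi.basisFun_apply, Pi.mul_apply]
  rcases eq_or_ne a b with rfl | h <;> simp [*]

theorem val_el_point (hd : n = d) (hker : PolLaw.ker F.law ≤ nilradical B) (K : Type u) [Field K]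
    [IsAlgClosed K] [Algebra A K] [Algebra T K] [IsScalarTower A T K] (i : Fin n) (r : K) :
    val F K (el e K i r) = r := by
  classical
  subst hd
  obtain ⟨x, hx⟩ := Groth.Agent.PLaw.exists_isPoints F K
  let ψ : Fin n → (B →ₐ[A] K) := fun l =>
    (((Pi.evalAlgHom K (fun _ => K) l).comp (θ e K).toAlgHom).restrictScalars A).comp
      Algebra.TensorProduct.includeRight
  have hpt : ∀ l z, Groth.Agent.PLaw.pointOn (AlgHom.id A K) (ψ l) z = θ e K z l := fun l z => by
    induction z using TensorProduct.induction_on with
    | zero => simp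
    | tmul s b =>
      rw [Groth.Agent.PLaw.pointOn_tmul, θ_tmul]
      simp [ψ, θ_tmul, Algebra.smul_def, mul_comm]
    | add u v hu hv => simp only [map_add, Pi.add_apply, hu, hv]
  have hψinj : Function.Injective ψ := fun l l' h => by
    by_contra hne
    have h1 := hpt l ((θ e K).symm (Pi.single l 1))
    rw [h, hpt, AlgEquiv.apply_symm_apply, Pi.single_eq_same, Pi.single_eq_of_ne (Ne.symm hne)] at h1
    exact zero_ne_one h1
  have hmem : ∀ l, ∃ j, x j = ψ l := fun l => Groth.Agent.PLaw.IsPoints.exists_eq F hx (ψ l) fun b hb => by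
    obtain ⟨m, hm⟩ := hker hb
    exact IsReduced.eq_zero _ ⟨m, by rw [← map_pow, hm, map_zero]⟩
  choose σ hσ using hmem
  have hσb : Function.Bijective σ :=
    Finite.injective_iff_bijective.mp fun l l' h => hψinj (by rw [← hσ, h, hσ])
  have hval : ∀ z, val F K z = ∏ j, Groth.Agent.PLaw.pointOn (AlgHom.id A K) (x j) z := fun z => by
    let μ : K ⊗[A] K →ₐ[A] K := Algebra.TensorProduct.lmul' A
    have h1 : ∀ w : K ⊗[A] A, μ ((Algebra.ofId A K).toLinearMap.lTensor K w) = TensorProduct.rid A K w := fun w => by
      induction w using TensorProduct.induction_on with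
      | zero => simp
      | tmul s a => simp [μ, Algebra.smul_def, Algebra.ofId_apply, mul_comm]
      | add u v hu hv => simp only [map_add, hu, hv]
    have h2 : ∀ j, μ (Algebra.TensorProduct.map (AlgHom.id K K) (x j) z) =
        Groth.Agent.PLaw.pointOn (AlgHom.id A K) (x j) z := fun j => by
      induction z using TensorProduct.induction_on with
      | zero => simp
      | tmul s b => simp [μ]
      | add u v hu hv => simp only [map_add, hu, hv]
    rw [val, ← h1, hx K z, map_prod]
    exact Finset.prod_congr rfl fun j _ => h2 j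
  rw [hval, ← Fintype.prod_bijective σ hσb (fun l => θ e K (el e K i r) l) _ fun l => by rw [hσ, hpt]]
  simp only [el, AlgEquiv.apply_symm_apply]
  rw [Finset.prod_eq_single i (fun l _ h => Function.update_of_ne h _ _)
    (fun h => absurd (Finset.mem_univ i) h), Function.update_self]

open Polynomial in
theorem val_el_X (hd : n = d) (hker : PolLaw.ker F.law ≤ nilradical B) (i : Fin n) :
    val F T[X] (el e T[X] i X) = X := by
  set P := val F T[X] (el e T[X] i X) with hP
  have hspec : ∀ (S : Type u) [CommRing S] [Algebra A S] [Algebra T S] [IsScalarTower A T S] (r : S),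
      val F S (el e S i r) = aeval r P := fun S _ _ _ _ r => by
    rw [← show (aeval r : T[X] →ₐ[T] S) X = r from aeval_X r, ← el_natural, ← val_natural]
    simp [P]
  have hidem : ∀ j k, P.coeff j * P.coeff k = if j = k then P.coeff j else 0 := by
    have h := val_mul F T[X][X] (el e T[X][X] i (C X)) (el e T[X][X] i X)
    rw [← el_mul, hspec, hspec, hspec] at h
    intro j k
    have hL : ∀ (Q : T[X]) (k : ℕ), (aeval (C X * X : T[X][X]) Q).coeff k = monomial k (Q.coeff k) := by
      intro Q k
      induction Q using Polynomial.induction_on' with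
      | add p q hp hq => simp [hp, hq]
      | monomial m a =>
        rw [aeval_monomial, mul_pow, ← C_pow, IsScalarTower.algebraMap_apply T T[X] T[X][X],
          Polynomial.algebraMap_eq, Polynomial.algebraMap_eq, ← mul_assoc, ← C_mul, coeff_C_mul, coeff_X_pow,
          coeff_monomial]
        rcases eq_or_ne k m with rfl | hkm
        · simp [C_mul_X_pow_eq_monomial]
        · simp [hkm, hkm.symm]
    have h2 := congrArg (fun q : T[X][X] => (q.coeff k).coeff j) h
    simp only [hL] at h2
    rw [show (C X : T[X][X]) = algebraMap T[X] T[X][X] X from rfl, aeval_algebraMap_apply,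
      aeval_X_left_apply, Polynomial.aeval_X_left_eq_map] at h2
    simp only [Polynomial.algebraMap_eq, coeff_C_mul, coeff_map, coeff_mul_C, coeff_monomial] at h2
    rw [← h2]
    rcases eq_or_ne j k with rfl | hjk
    · simp
    · simp [hjk, hjk.symm]
  have hfield : ∀ (j : ℕ) (p : PrimeSpectrum T), P.coeff j - (X : T[X]).coeff j ∈ p.asIdeal := by
    intro j p
    let K := AlgebraicClosure p.asIdeal.ResidueField
    have h : P.map (algebraMap T K) = X := by
      refine Polynomial.funext fun r => ?_
      rw [eval_map, ← aeval_def, ← hspec, val_el_point F e hd hker K, eval_X]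
    have h2 := congrArg (fun q => q.coeff j) h
    simp only [coeff_map] at h2
    rw [← Polynomial.map_X (algebraMap T K), coeff_map, ← sub_eq_zero, ← map_sub,
      IsScalarTower.algebraMap_apply T p.asIdeal.ResidueField K,
      map_eq_zero_iff _ (FaithfulSMul.algebraMap_injective _ _)] at h2
    exact (Ideal.algebraMap_residueField_eq_zero).mp h2
  refine Polynomial.ext fun j => ?_
  have hnil : IsNilpotent (P.coeff j - (X : T[X]).coeff j) := by
    rw [← mem_nilradical, nilradical_eq_sInf, Ideal.mem_sInf]
    exact fun {I} hI => hfield j ⟨I, hI⟩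
  have hi1 : IsIdempotentElem (P.coeff j) := (hidem j j).trans (if_pos rfl)
  have hi2 : IsIdempotentElem ((X : T[X]).coeff j) := by
    rw [coeff_X]; split_ifs <;> simp [IsIdempotentElem]
  exact eq_of_isNilpotent_sub_of_isIdempotentElem hi1 hi2 hnil

include e in
theorem val_eq_norm (hd : n = d) (hker : PolLaw.ker F.law ≤ nilradical B) (z : S ⊗[A] B) :
    val F S z = Algebra.norm S z := by
  rw [norm_eq_prod e, ← (θ e S).symm_apply_apply z, ← prod_el, val_prod, prod_el, AlgEquiv.apply_symm_apply]
  refine Finset.prod_congr rfl fun i _ => ?_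
  rw [← show (Polynomial.aeval (θ e S z i) : Polynomial T →ₐ[T] S) Polynomial.X = θ e S z i from
    Polynomial.aeval_X _, ← el_natural, ← val_natural, val_el_X F e hd hker]
  simp

include e in
theorem eq_zero_of_norm (b : B) (hb : ∀ x w : T ⊗[A] B, Algebra.norm T (x + w * (1 ⊗ₜ[A] b)) = Algebra.norm T x) :
    (1 : T) ⊗ₜ[A] b = 0 := by
  classical
  apply (θ e T).injective
  rw [map_zero]
  ext i
  have h := hb ((θ e T).symm (Function.update 1 i 0)) ((θ e T).symm (Pi.single i 1))
  rw [norm_eq_prod e, norm_eq_prod e, map_add, map_mul, AlgEquiv.apply_symm_apply, AlgEquiv.apply_symm_apply] at h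
  rw [Finset.prod_eq_single i, Finset.prod_eq_single i] at h
  · simpa using h
  all_goals first
    | (intro j _ hj; simp [Function.update_of_ne hj, Pi.single_eq_of_ne hj])
    | (intro hh; exact absurd (Finset.mem_univ i) hh)

end split

theorem exists_split [Module.Free A B] [Module.Finite A B] [Algebra.Etale A B] [Nontrivial A]
    (hd : Module.finrank A B = d) :
    ∃ (T : Type u) (_ : CommRing T) (_ : Algebra A T) (_ : Module.FaithfullyFlat A T),
      Nonempty (T ⊗[A] B ≃ₐ[T] (Fin d → T)) := by
  obtain ⟨T, _, _, _, _, _, hT⟩ := Algebra.IsFiniteSplit.exists_tensorProduct_of_etale (R := A) (S := B) (n := d)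
    (by rw [Module.rankAtStalk_eq_finrank_of_free, hd])
  obtain ⟨n, ⟨e⟩⟩ := hT.nonempty_algEquiv_fun
  haveI : Nontrivial T := (FaithfulSMul.algebraMap_injective A T).nontrivial
  have : n = d := by
    have := e.toLinearEquiv.finrank_eq
    rw [Module.finrank_baseChange, hd, Module.finrank_fin_fun] at this
    exact this.symm
  subst this
  exact ⟨T, inferInstance, inferInstance, inferInstance, ⟨e⟩⟩

theorem includeRight_injective {T : Type u} [CommRing T] [Algebra A T] [Module.FaithfullyFlat A T]
    (M : Type u) [AddCommGroup M] [Module A M] :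
    Function.Injective (TensorProduct.mk A T M 1) :=
  Module.FaithfullyFlat.tensorProduct_mk_injective M

theorem main [Module.Free A B] [Module.Finite A B] [Algebra.Etale A B] (hd : Module.finrank A B = d)
    (N : PolLaw.MulLaw A B A d)
    (hN : ∀ (S : Type u) [CommRing S] [Algebra A S] (x : S ⊗[A] B),
      N.law.toFun' S x = Algebra.norm S x ⊗ₜ[A] (1 : A)) :
    PolLaw.ker N.law = ⊥ ∧
      ∀ F : PolLaw.MulLaw A B A d, PolLaw.ker F.law ≤ nilradical B → F = N := by
  cases subsingleton_or_nontrivial A
  · haveI : Subsingleton B := Module.subsingleton A B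
    haveI : ∀ (n : ℕ), Subsingleton (MvPolynomial (Fin n) A ⊗[A] A) := fun n => Module.subsingleton A _
    exact ⟨Subsingleton.elim _ _, fun F _ => PolLaw.MulLaw.ext
      (Groth.Agent.PLaw.law_ext_mvPolynomial fun n x => Subsingleton.elim _ _)⟩
  obtain ⟨T, _, _, _, ⟨e⟩⟩ := exists_split hd
  refine ⟨eq_bot_iff.mpr fun b hb => ?_, fun F hF => PolLaw.MulLaw.ext
    (Groth.Agent.PLaw.law_ext_mvPolynomial fun n x => ?_)⟩
  · refine (Submodule.mem_bot B).mpr (includeRight_injective (A := A) (T := T) B ?_)
    rw [map_zero]
    refine eq_zero_of_norm e b fun x w => ?_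
    have h := hb T x w
    rw [hN, hN] at h
    simpa using congrArg (TensorProduct.rid A T) h
  · set S := MvPolynomial (Fin n) A
    apply (TensorProduct.rid A S).injective
    rw [hN, TensorProduct.rid_tmul, one_smul]
    show val F S x = _
    refine includeRight_injective (A := A) (T := T) S ?_
    show (Algebra.TensorProduct.includeRight : S →ₐ[A] T ⊗[A] S) _ = (Algebra.TensorProduct.includeRight : S →ₐ[A] T ⊗[A] S) _
    rw [val_natural, ← Groth.Agent.NormicBC70.norm_rTensor]
    exact val_eq_norm F e _ rfl hF _

end Groth.Agent.EtaleLaw70
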